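import Groth.Agent.AlgSpc.SepLQF2
import Mathlib.AlgebraicGeometry.ZariskisMainTheorem

/-!
Algebraic spaces locally quasi-finite over a field are separated schemes.
-/

set_option autoImplicit false
set_option backward.isDefEq.respectTransparency false
universe u

open CategoryTheory Limits AlgebraicGeometry
open AlgSp

namespace Groth.Agent.AlgSpLQFField

open Groth.Agent.AlgSpc

variable {S : Scheme.{u}}

/-- Algebraic spaces locally quasi-finite over a field are separated. -/
theorem isSeparatedMor_of_lqf_field {X : Sp S} (hX : IsAlgSpace X) {K : Type u} [Field K]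
    (str : Spec (.of K) ⟶ S) (f : X ⟶ (yon S).obj (Over.mk str)) (hf : LocP (@LocallyQuasiFinite ⊓ @LocallyOfFiniteType) f) : IsSeparatedMor f := by
  obtain ⟨A, a, ha, has⟩ := hX.atlas
  let u : A ⟶ Over.mk str := pre (a ≫ f)
  have hu : (yon S).map u = a ≫ f := map_pre _
  have hlq := hf a (𝟙 _) u ha (repWith_id _ _) (by rw [Category.comp_id, hu])
  haveI : LocallyQuasiFinite u.left := hlq.1
  haveI : LocallyOfFiniteType u.left := hlq.2
  obtain ⟨R, fst, r₂, sqa⟩ := exists_sq ha.1 a
  let r₁ : R ⟶ A := pre fst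
  haveI : Etale r₁.left := ha.2 a _ r₁ (by rw [map_pre]; exact sqa.flip)
  let lR : R ⟶ pullback u u := pullback.lift r₁ r₂ ((yon S).map_injective (by simp [r₁, hu, reassoc_of% sqa.w]))
  have hl₁ : lR ≫ pullback.fst u u = r₁ := pullback.lift_fst _ _ _
  have hl₂ : lR ≫ pullback.snd u u = r₂ := pullback.lift_snd _ _ _
  have hQ := (IsPullback.of_hasPullback u u).map (yon S)
  haveI : Mono lR := ⟨fun {Z} x y e => (yon S).map_injective (sqa.hom_ext
    (by rw [← map_pre fst]; rw [← Functor.map_comp, ← Functor.map_comp, show pre fst = r₁ from rfl, ← hl₁, reassoc_of% e])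
    (by rw [← Functor.map_comp, ← Functor.map_comp, ← hl₂, reassoc_of% e]))⟩
  let ξ : (yon S).obj (pullback u u) ⟶ pullback f f :=
    pullback.lift ((yon S).map (pullback.fst u u) ≫ a) ((yon S).map (pullback.snd u u) ≫ a) (by
      simp only [Category.assoc, ← hu, ← Functor.map_comp]
      rw [pullback.condition])
  have wl : ((yon S).map r₁ ≫ a) ≫ pullback.diagonal f = (yon S).map lR ≫ ξ := by
    apply pullback.hom_ext
    · simp only [ξ, Category.assoc, pullback.diagonal_fst, Category.comp_id, pullback.lift_fst,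
        ← Functor.map_comp_assoc, hl₁]
    · simp only [ξ, Category.assoc, pullback.diagonal_snd, Category.comp_id, pullback.lift_snd,
        ← Functor.map_comp_assoc, hl₂]
      rw [map_pre]; exact sqa.w
  have hlift : ∀ x : PullbackCone (pullback.diagonal f) ξ, ∃ n, n ≫ (yon S).map r₁ ≫ a = x.fst ∧
      n ≫ (yon S).map lR = x.snd := fun x => by
    have e₁ : (x.snd ≫ (yon S).map (pullback.fst u u)) ≫ a = x.fst := by
      simpa [ξ] using congrArg (· ≫ pullback.fst f f) x.condition.symm
    have e₂ : (x.snd ≫ (yon S).map (pullback.snd u u)) ≫ a = x.fst := by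
      simpa [ξ] using congrArg (· ≫ pullback.snd f f) x.condition.symm
    refine ⟨sqa.lift _ _ (e₁.trans e₂.symm), ?_, hQ.hom_ext ?_ ?_⟩
    · rw [map_pre, sqa.lift_fst_assoc, e₁]
    · rw [Category.assoc, ← Functor.map_comp, hl₁, map_pre, sqa.lift_fst]
    · rw [Category.assoc, ← Functor.map_comp, hl₂, sqa.lift_snd]
  choose n hn₁ hn₂ using hlift
  have sql : IsPullback ((yon S).map r₁ ≫ a) ((yon S).map lR) (pullback.diagonal f) ξ :=
    IsPullback.of_isLimit' ⟨wl⟩ (PullbackCone.IsLimit.mk _ n hn₁ hn₂
      fun x k _ hk => (cancel_mono ((yon S).map lR)).1 (hk.trans (hn₂ x).symm))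
  have hsQ := FppfDescent.isPullback_forget (IsPullback.of_hasPullback u u)
  haveI : Mono lR.left := inferInstanceAs (Mono ((Over.forget S).map lR))
  haveI : LocallyQuasiFinite (pullback.fst u u).left := MorphismProperty.of_isPullback hsQ.flip ‹_›
  haveI : LocallyOfFiniteType (pullback.fst u u).left := MorphismProperty.of_isPullback hsQ.flip ‹_›
  haveI : LocallyQuasiFinite (lR.left ≫ (pullback.fst u u).left) := by
    rw [← Over.comp_left, hl₁]; exact lqf_of_etale _
  haveI : LocallyOfFiniteType (lR.left ≫ (pullback.fst u u).left) := by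
    rw [← Over.comp_left, hl₁]; infer_instance
  haveI : LocallyQuasiFinite lR.left := LocallyQuasiFinite.of_comp lR.left (pullback.fst u u).left
  haveI : LocallyQuasiFinite ((pullback.fst u u).left ≫ u.left) := inferInstance
  haveI : IsLocallyArtinian (Over.mk str).left := inferInstanceAs (IsLocallyArtinian (Spec (.of K)))
  haveI : IsLocallyArtinian (pullback u u).left :=
    IsLocallyArtinian.of_locallyQuasiFinite ((pullback.fst u u).left ≫ u.left)
  haveI : DiscreteTopology ↥(pullback u u).left :=
    discreteTopology_of_lqf_to_field ((pullback.fst u u).left ≫ u.left)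
  haveI : QuasiCompact lR.left := ⟨fun U _ hUc => by
    have h1 : (lR.left ⁻¹' U).Finite := (hUc.finite_of_discrete).preimage
      (fun x _ y _ h => lR.left.injective h)
    exact h1.isCompact⟩
  haveI : IsFinite lR.left := IsFinite.of_locallyQuasiFinite _
  haveI hcl : IsClosedImmersion lR.left := (IsClosedImmersion.iff_isFinite_and_mono _).2 ⟨‹_›, ‹_›⟩
  refine repWith_of_cover (P := @IsClosedImmersion) (fun A B C D a k' k c s h₁ h₂ h₃ hk =>
    MorphismProperty.of_isPullback_of_descendsAlong (P := @IsClosedImmersion)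
      (Q := @Surjective ⊓ @Flat ⊓ @LocallyOfFinitePresentation) s.flip ⟨⟨h₃, h₁⟩, h₂⟩ hk)
    (AlgSpLoc.representable_diagonal_mor hX f) sql (fun T x => ?_) hcl
  obtain ⟨T₁, c₁, m₁, f₁, p₁, s₁, w₁⟩ := exists_lift_of_atlas ha has T (x ≫ pullback.fst f f)
  obtain ⟨T₂, c₂, m₂, f₂, p₂, s₂, w₂⟩ := exists_lift_of_atlas ha has T₁ ((yon S).map c₁ ≫ x ≫ pullback.snd f f)
  refine ⟨T₂, c₂ ≫ c₁, pullback.lift (c₂ ≫ m₁) m₂ ?_, ?_, ?_, ?_, ?_⟩
  · apply (yon S).map_injective
    rw [Category.assoc, (yon S).map_comp c₂, (yon S).map_comp m₁, (yon S).map_comp m₂, hu, ← Category.assoc _ a,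
      ← w₁, ← Category.assoc _ a, ← w₂]
    simp [pullback.condition]
  · rw [Over.comp_left]; infer_instance
  · rw [Over.comp_left]; infer_instance
  · rw [Over.comp_left]; infer_instance
  · apply pullback.hom_ext
    · rw [Category.assoc, Category.assoc, pullback.lift_fst, ← Category.assoc _ _ a, ← Functor.map_comp,
        pullback.lift_fst, Functor.map_comp, Functor.map_comp, Category.assoc, Category.assoc, w₁]
    · rw [Category.assoc, Category.assoc, pullback.lift_snd, ← Category.assoc _ _ a, ← Functor.map_comp,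
        pullback.lift_snd, Functor.map_comp, Category.assoc, w₂]

theorem isRepresentable_of_lqf_field {X : Sp S} (hX : IsAlgSpace X) {K : Type u} [Field K]
    (str : Spec (.of K) ⟶ S) (f : X ⟶ (yon S).obj (Over.mk str))
    (hf : LocP (@LocallyQuasiFinite ⊓ @LocallyOfFiniteType) f) : X.obj.IsRepresentable :=
  SepLQF.isRepresentable_of_lqf_separated hX f hf (isSeparatedMor_of_lqf_field hX str f hf)

/-- Over a field, locally quasi-finite and locally of finite type means of finite type with discrete space. -/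
theorem lqf_iff_dim {U : Scheme.{u}} {K : Type u} [Field K] (g : U ⟶ Spec (.of K)) [LocallyOfFiniteType g] :
    LocallyQuasiFinite g ↔ topologicalKrullDim ↥U ≤ 0 := by
  refine ⟨fun _ => ?_, fun h => ?_⟩
  · haveI := discreteTopology_of_lqf_to_field g
    exact (topologicalKrullDim_zero_of_discreteTopology ↥U)
  · haveI : IsLocallyNoetherian U := LocallyOfFiniteType.isLocallyNoetherian g
    haveI : IsLocallyArtinian U := IsLocallyArtinian.of_topologicalKrullDim_le_zero h
    exact locallyQuasiFinite_iff_isDiscrete_preimage_singleton.2 fun x => ⟨inferInstance⟩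

theorem isLocalRing_of_subsingleton_spec {A : Type u} [CommRing A] [Subsingleton (PrimeSpectrum A)]
    [Nontrivial A] : IsLocalRing A := by
  obtain ⟨m, hm⟩ := Ideal.exists_maximal A
  refine IsLocalRing.of_unique_max_ideal ⟨m, hm, fun m' hm' => ?_⟩
  exact congrArg PrimeSpectrum.asIdeal
    (Subsingleton.elim (⟨m', hm'.isPrime⟩ : PrimeSpectrum A) ⟨m, hm.isPrime⟩)

end Groth.Agent.AlgSpLQFField
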